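import Mathlib

set_option autoImplicit false

/-!
Schur's theorem on permutation groups with a regular cyclic subgroup of prime power order.
-/

namespace CfsgLib.Hall2.CyclicRegular

open Finset

variable {A : Type*} [AddCommGroup A] (P : Subgroup (Equiv.Perm A))

/-- `f` is constant on the orbits of `P` on pairs, read through differences. -/
def InvF {R : Type*} (f : A → R) : Prop :=
  ∀ σ ∈ P, ∀ a b : A, f (σ b - σ a) = f (b - a)

variable {P}

theorem invF_of_stabilizer {R : Type*} (htr : ∀ a : A, Equiv.addRight a ∈ P) {f : A → R}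
    (h : ∀ σ ∈ P, σ 0 = 0 → ∀ x, f (σ x) = f x) : InvF P f := by
  intro σ hσ a b
  have := h _ (P.mul_mem (P.mul_mem (htr (-σ a)) hσ) (htr a)) (by simp) (b - a)
  simpa [sub_eq_add_neg] using this

/-- The subgroup generated by an invariant set is invariant. -/
theorem closure_invariant {W : Set A} (hW : InvF P fun x => x ∈ W) :
    InvF P fun x => x ∈ AddSubgroup.closure W := by
  have key : ∀ d ∈ AddSubgroup.closure W, ∀ σ ∈ P, ∀ a : A,
      σ (a + d) - σ a ∈ AddSubgroup.closure W := by
    intro d hd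
    induction hd using AddSubgroup.closure_induction with
    | mem d hd =>
      intro σ hσ a
      refine AddSubgroup.subset_closure ?_
      have := hW σ hσ a (a + d)
      simp only [add_sub_cancel_left] at this
      exact this.mpr hd
    | zero => intro σ _ a; simp
    | add d e _ _ h1 h2 =>
      intro σ hσ a
      have := add_mem (h2 σ hσ (a + d)) (h1 σ hσ a)
      rwa [sub_add_sub_cancel, add_assoc] at this
    | neg d _ h1 =>
      intro σ hσ a
      have := neg_mem (h1 σ hσ (a + -d))
      rwa [neg_sub, neg_add_cancel_right] at this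
  intro σ hσ a b
  refine propext ⟨fun h => ?_, fun h => ?_⟩
  · simpa using key _ h σ⁻¹ (P.inv_mem hσ) (σ a)
  · simpa using key _ h σ hσ a

open scoped AddMonoidAlgebra in
theorem invF_mul [Fintype A] [DecidableEq A] {R : Type*} [CommSemiring R]
    {x y : AddMonoidAlgebra R A} (hx : InvF P fun a => x.coeff a)
    (hy : InvF P fun a => y.coeff a) : InvF P fun a => (x * y).coeff a := by
  intro σ hσ a b
  have hconv : ∀ c, (x * y).coeff c = ∑ d, x.coeff d * y.coeff (c - d) := fun c => by
    rw [AddMonoidAlgebra.coeff_mul_antidiag x y c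
      (univ.map ⟨fun d => (d, c - d), fun d e h => congrArg Prod.fst h⟩) (by
        intro q
        simp only [Finset.mem_map, Finset.mem_univ, true_and, Function.Embedding.coeFn_mk]
        constructor
        · rintro ⟨d, rfl⟩; exact add_sub_cancel d c
        · intro h; exact ⟨q.1, Prod.ext rfl (show c - q.1 = q.2 by rw [← h, add_sub_cancel_left])⟩),
      Finset.sum_map]
    rfl
  simp only [hconv]
  rw [← (σ.trans (Equiv.subRight (σ a))).sum_comp (fun d => x.coeff d * y.coeff (σ b - σ a - d)),
    ← (Equiv.subRight a).sum_comp (fun d => x.coeff d * y.coeff (b - a - d))]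
  refine Finset.sum_congr rfl fun d _ => ?_
  simp only [Equiv.trans_apply, Equiv.subRight_apply, sub_sub_sub_cancel_right]
  exact congrArg₂ (· * ·) (hx σ hσ a d) (hy σ hσ d b)

/-- Schur: the set of `p`-th multiples met with multiplicity prime to `p` is invariant. -/
theorem invF_pow_count [Fintype A] [DecidableEq A] {p : ℕ} [Fact p.Prime] {T : Finset A}
    (hT : InvF P fun a => a ∈ T) :
    InvF P fun y => ((T.filter fun t => p • t = y).card : ZMod p) := by
  have hchar : CharP (AddMonoidAlgebra (ZMod p) A) p :=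
    charP_of_injective_algebraMap (FaithfulSMul.algebraMap_injective (ZMod p) _) p
  let x : AddMonoidAlgebra (ZMod p) A := ∑ t ∈ T, AddMonoidAlgebra.single t 1
  have hxc : ∀ a, x.coeff a = if a ∈ T then 1 else 0 := fun a => by
    simp [x, AddMonoidAlgebra.coeff_sum, Finsupp.finsetSum_apply, AddMonoidAlgebra.coeff_single,
      Finsupp.single_apply]
  have hx : InvF P fun a => x.coeff a := fun σ hσ a b => by
    simp only [hxc]
    exact if_congr (iff_of_eq (hT σ hσ a b)) rfl rfl
  have hpow : ∀ k : ℕ, InvF P fun a => (x ^ (k + 1)).coeff a := by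
    intro k
    induction k with
    | zero => simpa using hx
    | succ k ih => rw [pow_succ]; exact invF_mul ih hx
  have h := hpow (p - 1)
  have hp1 : p - 1 + 1 = p := Nat.sub_add_cancel (Fact.out : p.Prime).one_le
  rw [hp1] at h
  have hcoeff : ∀ y, (x ^ p).coeff y = ((T.filter fun t => p • t = y).card : ZMod p) := by
    intro y
    rw [sum_pow_char]
    simp only [AddMonoidAlgebra.single_pow, one_pow, AddMonoidAlgebra.coeff_sum,
      Finsupp.finsetSum_apply, AddMonoidAlgebra.coeff_single, Finsupp.single_apply]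
    rw [Finset.sum_boole]
  simpa only [hcoeff] using h

/-- Schur: a permutation group with a regular cyclic subgroup of order `p ^ m`, `m ≥ 2`, without
invariant proper nontrivial subgroup is doubly transitive on the points. -/
theorem exists_map_of_no_invariant {p m : ℕ} [hp : Fact p.Prime] (hm : 2 ≤ m)
    {P : Subgroup (Equiv.Perm (ZMod (p ^ m)))} (htr : ∀ a, Equiv.addRight a ∈ P)
    (hno : ∀ L : AddSubgroup (ZMod (p ^ m)), InvF P (fun x => x ∈ L) → L = ⊥ ∨ L = ⊤)
    {x y : ZMod (p ^ m)} (hx : x ≠ 0) (hy : y ≠ 0) : ∃ σ ∈ P, σ 0 = 0 ∧ σ x = y := by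
  classical
  have : NeZero (p ^ m) := ⟨pow_ne_zero _ hp.out.ne_zero⟩
  let A := ZMod (p ^ m)
  by_contra hxy
  let orb : A → Finset A := fun t => univ.filter fun u => ∃ σ ∈ P, σ 0 = 0 ∧ σ t = u
  have horb : ∀ t u, u ∈ orb t ↔ ∃ σ ∈ P, σ 0 = 0 ∧ σ t = u := fun t u => by simp [orb]
  have hself : ∀ t, t ∈ orb t := fun t => (horb t t).2 ⟨1, P.one_mem, rfl, rfl⟩
  have hinv : ∀ t, InvF P fun a => a ∈ orb t := fun t => by
    refine invF_of_stabilizer htr fun σ hσ h0 u => propext ?_
    rw [horb, horb]
    constructor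
    · rintro ⟨τ, hτ, hτ0, hτt⟩
      refine ⟨σ⁻¹ * τ, P.mul_mem (P.inv_mem hσ) hτ, ?_, ?_⟩ <;>
        simp [Equiv.Perm.inv_def, Equiv.symm_apply_eq, hτ0, hτt, h0]
    · rintro ⟨τ, hτ, hτ0, hτt⟩
      exact ⟨σ * τ, P.mul_mem hσ hτ, by simp [hτ0, h0], by simp [hτt]⟩
  have hne0 : ∀ t, t ≠ 0 → (0 : A) ∉ orb t := by
    intro t ht h
    obtain ⟨σ, -, h0, h1⟩ := (horb t 0).1 h
    exact ht (σ.injective (h1.trans h0.symm))
  -- the `p`-torsion
  let q : A := ((p ^ (m - 1) : ℕ) : A)
  have hpm : p * p ^ (m - 1) = p ^ m := by rw [← pow_succ', Nat.sub_add_cancel (by omega)]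
  have htors : ∀ z : A, p • z = 0 ↔ z ∈ Finset.image (fun j : Fin p => (j : ℕ) • q) univ := by
    intro z
    simp only [Finset.mem_image, Finset.mem_univ, true_and, q, nsmul_eq_mul, ← Nat.cast_mul]
    constructor
    · intro h
      rw [← ZMod.natCast_zmod_val z, ← Nat.cast_mul, ZMod.natCast_eq_zero_iff] at h
      obtain ⟨j, hj⟩ : p ^ (m - 1) ∣ z.val := by
        refine Nat.dvd_of_mul_dvd_mul_left hp.out.pos ?_
        rwa [hpm]
      refine ⟨⟨j, ?_⟩, ?_⟩
      · have h1 := ZMod.val_lt z
        have h2 : p ^ (m - 1) * j < p ^ (m - 1) * p := by rw [← hj, mul_comm _ p, hpm]; exact h1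
        exact Nat.lt_of_mul_lt_mul_left h2
      · conv_rhs => rw [← ZMod.natCast_zmod_val z, hj, mul_comm]
    · rintro ⟨j, rfl⟩
      rw [← Nat.cast_mul, ZMod.natCast_eq_zero_iff]
      exact ⟨j, by rw [← hpm]; ring⟩
  let Z : Finset A := univ.filter fun z => p • z = 0 ∧ z ≠ 0
  have hmemZ : ∀ z, z ∈ Z ↔ p • z = 0 ∧ z ≠ 0 := fun z => by simp [Z]
  have hZcard : Z.card ≤ p - 1 := by
    have h1 : insert 0 Z ⊆ Finset.image (fun j : Fin p => (j : ℕ) • q) univ := by
      intro z hz
      rw [← htors]
      rcases Finset.mem_insert.1 hz with rfl | hz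
      · exact smul_zero _
      · exact ((hmemZ z).1 hz).1
    have h2 := Finset.card_le_card h1
    have h3 : (Finset.image (fun j : Fin p => (j : ℕ) • q) univ).card ≤ p :=
      Finset.card_image_le.trans (by rw [Finset.card_univ, Fintype.card_fin])
    rw [Finset.card_insert_of_notMem (fun h => ((hmemZ 0).1 h).2 rfl)] at h2
    omega
  have hfib : ∀ t : A, (univ.filter fun u : A => p • u = p • t).card ≤ p := by
    intro t
    have h1 : (univ.filter fun u : A => p • u = p • t) ⊆
        (Finset.image (fun j : Fin p => (j : ℕ) • q) univ).image (t + ·) := by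
      intro u hu
      rw [Finset.mem_filter] at hu
      refine Finset.mem_image.2 ⟨u - t, (htors _).1 (by rw [nsmul_sub, hu.2, sub_self]),
        add_sub_cancel t u⟩
    exact (Finset.card_le_card h1).trans (Finset.card_image_le.trans
      (Finset.card_image_le.trans (by rw [Finset.card_univ, Fintype.card_fin])))
  -- invariant sets inside proper subgroups
  have hWbot : ∀ W : Set A, InvF P (fun a => a ∈ W) → ∀ K : AddSubgroup A, W ⊆ K → K ≠ ⊤ →
      W ⊆ {0} := by
    intro W hW K hWK hK
    rcases hno _ (closure_invariant hW) with h | h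
    · intro w hw
      have := AddSubgroup.subset_closure (k := W) hw
      rw [h] at this
      exact this
    · exact absurd (top_le_iff.1 (h.ge.trans ((AddSubgroup.closure_le K).2 hWK))) hK
  let pA : AddSubgroup A := (nsmulAddMonoidHom p : A →+ A).range
  have hpA : pA ≠ ⊤ := by
    intro h
    obtain ⟨u, hu⟩ := h.ge (AddSubgroup.mem_top (1 : A))
    have h1 : p • u = (1 : A) := hu
    have h2 := congrArg (fun w => (p ^ (m - 1)) • w) h1
    simp only [smul_smul, mul_comm _ p, hpm] at h2
    rw [nsmul_eq_mul, nsmul_eq_mul, ZMod.natCast_self, zero_mul, mul_one, eq_comm,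
      ZMod.natCast_eq_zero_iff] at h2
    have := Nat.le_of_dvd (pow_pos hp.out.pos _) h2
    have := Nat.pow_lt_pow_right hp.out.one_lt (show m - 1 < m by omega)
    omega
  have hdiv : ∀ t, ∀ u : A, u ≠ 0 → (((orb t).filter fun s => p • s = u).card : ZMod p) = 0 := by
    intro t u hu
    by_contra hne
    have hf := invF_pow_count (p := p) (hinv t)
    refine hu (hWbot {w | w ≠ 0 ∧ (((orb t).filter fun s => p • s = w).card : ZMod p) ≠ 0}
      ?_ pA ?_ hpA ⟨hu, hne⟩)
    · intro σ hσ a b
      have := hf σ hσ a b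
      exact propext (and_congr (by rw [sub_ne_zero, sub_ne_zero, σ.injective.ne_iff])
        (not_congr (Eq.congr (by convert this using 4) rfl)))
    · intro w hw
      obtain ⟨s, hs⟩ : ((orb t).filter fun s => p • s = w).Nonempty := by
        rw [← Finset.card_ne_zero]
        intro h
        exact hw.2 (by rw [h, Nat.cast_zero])
      exact ⟨s, (Finset.mem_filter.1 hs).2⟩
  -- orbits are unions of cosets of the torsion away from it
  have hcoset : ∀ t, ∀ s ∈ orb t, p • s ≠ 0 → ∀ u : A, p • u = p • s → u ∈ orb t := by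
    intro t s hs hps u hu
    have h1 := (ZMod.natCast_eq_zero_iff _ _).1 (hdiv t (p • s) hps)
    have hpos : 0 < ((orb t).filter fun r => p • r = p • s).card :=
      Finset.card_pos.2 ⟨s, Finset.mem_filter.2 ⟨hs, rfl⟩⟩
    have heq : (orb t).filter (fun r => p • r = p • s) = univ.filter (fun r : A => p • r = p • s) :=
      Finset.eq_of_subset_of_card_le (Finset.filter_subset_filter _ (Finset.subset_univ _))
        ((hfib s).trans (Nat.le_of_dvd hpos h1))
    have : u ∈ (orb t).filter (fun r => p • r = p • s) := by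
      rw [heq]; exact Finset.mem_filter.2 ⟨Finset.mem_univ _, hu⟩
    exact (Finset.mem_filter.1 this).1
  -- every orbit meets the torsion
  have hmeet : ∀ t : A, t ≠ 0 → ∃ z ∈ orb t, z ∈ Z := by
    intro t ht
    by_contra hcon
    push Not at hcon
    have hrad : InvF P fun l : A => ∀ c, c ∈ orb t → c + l ∈ orb t := by
      have key : ∀ l : A, (∀ c, c ∈ orb t → c + l ∈ orb t) → ∀ σ ∈ P, σ 0 = 0 →
          ∀ c, c ∈ orb t → c + σ l ∈ orb t := by
        intro l hl σ hσ h0 c hc
        have e1 := hinv t σ hσ l (σ⁻¹ (c + σ l))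
        simp only [Equiv.Perm.inv_def, Equiv.apply_symm_apply, add_sub_cancel_right] at e1
        have e2 := hl _ (e1.mp hc)
        rw [sub_add_cancel] at e2
        have e3 := hinv t σ hσ 0 (σ⁻¹ (c + σ l))
        simp only [Equiv.Perm.inv_def, Equiv.apply_symm_apply, h0, sub_zero] at e3
        exact e3.mpr e2
      refine invF_of_stabilizer htr fun σ hσ h0 l => propext ⟨fun h => ?_, fun h => key l h σ hσ h0⟩
      have := key _ h σ⁻¹ (P.inv_mem hσ) (by rw [Equiv.Perm.inv_def, Equiv.symm_apply_eq, h0])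
      simpa [Equiv.Perm.inv_def] using this
    have hne : q ≠ 0 := by
      intro h
      have := Nat.le_of_dvd (pow_pos hp.out.pos _) ((ZMod.natCast_eq_zero_iff _ _).1 h)
      have := Nat.pow_lt_pow_right hp.out.one_lt (show m - 1 < m by omega)
      omega
    have hpq : p • q = 0 := by
      rw [nsmul_eq_mul, ← Nat.cast_mul, hpm, ZMod.natCast_self]
    have hqrad : ∀ c, c ∈ orb t → c + q ∈ orb t := by
      intro c hc
      refine hcoset t c hc (fun h => hcon c hc ((hmemZ c).2 ⟨h, ?_⟩)) _ (by rw [nsmul_add, hpq, add_zero])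
      rintro rfl
      exact hne0 t ht hc
    rcases hno _ (closure_invariant (W := {l : A | ∀ c, c ∈ orb t → c + l ∈ orb t}) hrad) with h | h
    · have := AddSubgroup.subset_closure (k := {l : A | ∀ c, c ∈ orb t → c + l ∈ orb t}) hqrad
      rw [h] at this
      exact hne this
    · have hall : ∀ l ∈ AddSubgroup.closure {l : A | ∀ c, c ∈ orb t → c + l ∈ orb t},
          ∀ c, c ∈ orb t → c + l ∈ orb t := by
        intro l hl
        rw [← AddSubgroup.mem_toAddSubmonoid, AddSubgroup.closure_toAddSubmonoid_of_finite] at hl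
        induction hl using AddSubmonoid.closure_induction with
        | mem l hl => exact hl
        | zero => simp
        | add d e _ _ h1 h2 => intro c hc; rw [← add_assoc]; exact h2 _ (h1 c hc)
      have := hall (-t) (by rw [h]; exact AddSubgroup.mem_top _) t (hself t)
      rw [add_neg_cancel] at this
      exact hne0 t ht this
  -- the counting function
  have hlarge : ∀ t : A, t ≠ 0 → p < (orb t).card := by
    intro t ht
    obtain ⟨z, hz, hzZ⟩ := hmeet t ht
    obtain ⟨s, hs, hps⟩ : ∃ s ∈ orb t, p • s ≠ 0 := by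
      by_contra hcon
      push Not at hcon
      have hK : (AddMonoidHom.ker (nsmulAddMonoidHom p : A →+ A)) ≠ ⊤ := by
        intro h
        have h1 : p • (1 : A) = 0 := h.ge (AddSubgroup.mem_top _)
        rw [nsmul_eq_mul, mul_one, ZMod.natCast_eq_zero_iff] at h1
        have := Nat.le_of_dvd hp.out.pos h1
        have := Nat.pow_lt_pow_right hp.out.one_lt (show 1 < m by omega)
        rw [pow_one] at this
        omega
      exact ht (hWbot (orb t : Set A) (hinv t) _ (fun u hu => hcon u hu) hK (hself t))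
    have hsub : insert z (univ.filter fun u : A => p • u = p • s) ⊆ orb t := by
      intro u hu
      rcases Finset.mem_insert.1 hu with rfl | hu
      · exact hz
      · exact hcoset t s hs hps u (Finset.mem_filter.1 hu).2
    have hcard : p ≤ (univ.filter fun u : A => p • u = p • s).card := by
      have hinj : Function.Injective (fun j : Fin p => s + (j : ℕ) • q) := by
        intro i j h
        have h1 := add_left_cancel h
        simp only [q, nsmul_eq_mul, ← Nat.cast_mul] at h1
        have h1 := (ZMod.natCast_eq_natCast_iff' _ _ _).1 h1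
        have hlt : ∀ k : Fin p, (k : ℕ) * p ^ (m - 1) < p ^ m := fun k => by
          rw [← hpm]; exact Nat.mul_lt_mul_of_pos_right k.2 (pow_pos hp.out.pos _)
        rw [Nat.mod_eq_of_lt (hlt i), Nat.mod_eq_of_lt (hlt j)] at h1
        exact Fin.ext (Nat.eq_of_mul_eq_mul_right (pow_pos hp.out.pos _) h1)
      calc p = (univ.image fun j : Fin p => s + (j : ℕ) • q).card := by
            rw [Finset.card_image_of_injective _ hinj, Finset.card_univ, Fintype.card_fin]
        _ ≤ _ := Finset.card_le_card fun u hu => by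
            obtain ⟨j, -, rfl⟩ := Finset.mem_image.1 hu
            refine Finset.mem_filter.2 ⟨Finset.mem_univ _, ?_⟩
            rw [nsmul_add, (htors _).2 (Finset.mem_image_of_mem _ (Finset.mem_univ j)), add_zero]
    have := Finset.card_le_card hsub
    rw [Finset.card_insert_of_notMem (fun h => hps (by
      rw [← (Finset.mem_filter.1 h).2]; exact ((hmemZ z).1 hzZ).1))] at this
    omega
  have hineq : ∀ t : A, t ≠ 0 →
      (p ^ m - 1) * ((orb t).card - (p - 1)) ≤ (orb t).card * ((orb t).card - 1) := by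
    intro t ht
    let c : A → ℕ := fun u => ((orb t).filter fun s => s - u ∈ orb t).card
    have hc : ∀ σ ∈ P, σ 0 = 0 → ∀ u, c (σ u) = c u := by
      intro σ hσ h0 u
      refine (Finset.card_bij (fun s _ => σ s) (fun s hs => ?_) (fun _ _ _ _ h => σ.injective h)
        (fun s hs => ?_)).symm
      · rw [Finset.mem_filter] at hs ⊢
        have e1 := hinv t σ hσ 0 s
        have e2 := hinv t σ hσ u s
        simp only [h0, sub_zero] at e1
        exact ⟨e1.mpr hs.1, e2.mpr hs.2⟩
      · rw [Finset.mem_filter] at hs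
        refine ⟨σ⁻¹ s, Finset.mem_filter.2 ?_, by simp⟩
        have e1 := hinv t σ hσ 0 (σ⁻¹ s)
        have e2 := hinv t σ hσ u (σ⁻¹ s)
        simp only [h0, sub_zero, Equiv.Perm.inv_def, Equiv.apply_symm_apply] at e1 e2
        exact ⟨e1.mp hs.1, e2.mp hs.2⟩
    have hlow : ∀ u : A, u ≠ 0 → (orb t).card - (p - 1) ≤ c u := by
      intro u hu
      obtain ⟨z, hz, hzZ⟩ := hmeet u hu
      obtain ⟨σ, hσ, h0, rfl⟩ := (horb u z).1 hz
      rw [← hc σ hσ h0 u]
      refine le_trans ?_ (Finset.card_le_card (s := orb t \ Z) ?_)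
      · have := Finset.le_card_sdiff Z (orb t)
        omega
      · intro s hs
        rw [Finset.mem_sdiff] at hs
        refine Finset.mem_filter.2 ⟨hs.1, hcoset t s hs.1 (fun h => hs.2 ((hmemZ s).2 ⟨h, ?_⟩)) _
          (by rw [nsmul_sub, ((hmemZ _).1 hzZ).1, sub_zero])⟩
        rintro rfl
        exact hne0 t ht hs.1
    have hsum : ∑ u ∈ univ.erase (0 : A), c u ≤ (orb t).card * ((orb t).card - 1) := by
      simp only [c, Finset.card_filter]
      rw [Finset.sum_comm]
      refine Finset.sum_le_card_nsmul _ _ _ (fun s hs => ?_) |>.trans_eq (smul_eq_mul _ _)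
      rw [← Finset.card_filter, ← Finset.card_erase_of_mem hs]
      refine Finset.card_le_card_of_injOn (fun u => s - u) (fun u hu => ?_)
        (fun a _ b _ h => by simpa using h)
      simp only [Finset.mem_coe, Finset.mem_filter, Finset.mem_erase] at hu ⊢
      exact ⟨fun h => hu.1.1 (by simpa using h), hu.2⟩
    refine le_trans ?_ ((Finset.card_nsmul_le_sum _ _ _ fun u hu => hlow u
      (Finset.ne_of_mem_erase hu)).trans hsum)
    rw [smul_eq_mul, Finset.card_erase_of_mem (Finset.mem_univ _), Finset.card_univ, ZMod.card]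
  have hdis : Disjoint (orb x) (orb y) := by
    rw [Finset.disjoint_left]
    intro u hu hu'
    obtain ⟨σ, hσ, h0, h1⟩ := (horb x u).1 hu
    obtain ⟨τ, hτ, k0, k1⟩ := (horb y u).1 hu'
    refine hxy ⟨τ⁻¹ * σ, P.mul_mem (P.inv_mem hτ) hσ, ?_, ?_⟩ <;>
      simp [Equiv.Perm.inv_def, Equiv.symm_apply_eq, h0, h1, k0, k1]
  have hsum2 : (orb x).card + (orb y).card ≤ p ^ m - 1 := by
    rw [← Finset.card_union_of_disjoint hdis]
    refine (Finset.card_le_card (t := univ.erase (0 : A)) fun u hu => Finset.mem_erase.2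
      ⟨fun h => ?_, Finset.mem_univ u⟩).trans (by
        rw [Finset.card_erase_of_mem (Finset.mem_univ _), Finset.card_univ, ZMod.card])
    subst h
    rcases Finset.mem_union.1 hu with h | h
    · exact hne0 x hx h
    · exact hne0 y hy h
  have hN : p * p ≤ p ^ m := by
    rw [← sq]; exact Nat.pow_le_pow_right hp.out.pos hm
  have hp2 := hp.out.two_le
  have key : ∀ s N : ℕ, p < s → 2 * s ≤ N → p * p ≤ N + 1 →
      ¬ N * (s - (p - 1)) ≤ s * (s - 1) := by
    intro s N hs h2s hN h
    obtain ⟨d, rfl⟩ : ∃ d, s = p + 1 + d := ⟨s - (p + 1), by omega⟩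
    obtain ⟨e, rfl⟩ : ∃ e, N = 2 * (p + 1 + d) + e := ⟨N - 2 * (p + 1 + d), by omega⟩
    rw [show p + 1 + d - (p - 1) = d + 2 by omega, show p + 1 + d - 1 = p + d by omega] at h
    nlinarith
  rcases le_total (orb x).card (orb y).card with h | h
  · exact key _ _ (hlarge x hx) (by omega) (by omega) (hineq x hx)
  · exact key _ _ (hlarge y hy) (by omega) (by omega) (hineq y hy)

/-- Either doubly transitive, or an invariant proper subgroup contains the torsion element. -/
theorem doubly_or_invariant {p m : ℕ} [hp : Fact p.Prime] (hm : 2 ≤ m)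
    {P : Subgroup (Equiv.Perm (ZMod (p ^ m)))} (htr : ∀ a, Equiv.addRight a ∈ P) :
    (∀ {a b c d : ZMod (p ^ m)}, a ≠ b → c ≠ d → ∃ σ ∈ P, σ a = c ∧ σ b = d) ∨
      ∃ L : AddSubgroup (ZMod (p ^ m)), InvF P (fun x => x ∈ L) ∧ L ≠ ⊤ ∧
        ((p ^ (m - 1) : ℕ) : ZMod (p ^ m)) ∈ L := by
  classical
  have : NeZero (p ^ m) := ⟨pow_ne_zero _ hp.out.ne_zero⟩
  by_cases hno : ∀ L : AddSubgroup (ZMod (p ^ m)), InvF P (fun x => x ∈ L) → L = ⊥ ∨ L = ⊤
  · left
    intro a b c d hab hcd
    obtain ⟨σ, hσ, h0, h1⟩ := exists_map_of_no_invariant hm htr hno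
      (sub_ne_zero.2 hab.symm) (sub_ne_zero.2 hcd.symm)
    refine ⟨Equiv.addRight c * σ * Equiv.addRight (-a),
      P.mul_mem (P.mul_mem (htr c) hσ) (htr (-a)), by simp [h0], ?_⟩
    simp [← sub_eq_add_neg, h1]
  right
  push Not at hno
  obtain ⟨L, hL, hbot, htop⟩ := hno
  refine ⟨L, hL, htop, ?_⟩
  obtain ⟨x, hxL, hx0⟩ : ∃ x ∈ L, x ≠ 0 := by
    by_contra h
    push Not at h
    exact hbot ((AddSubgroup.eq_bot_iff_forall L).2 h)
  have hxv : x.val ≠ 0 := fun h => hx0 ((ZMod.val_eq_zero x).1 h)
  obtain ⟨e, r, hr, hxe⟩ := Nat.exists_eq_pow_mul_and_not_dvd hxv p hp.out.ne_one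
  have he : e < m := by
    by_contra hcon
    have h1 : p ^ m ∣ x.val := (pow_dvd_pow p (not_lt.1 hcon)).trans (hxe ▸ dvd_mul_right _ _)
    exact hxv (Nat.eq_zero_of_dvd_of_lt h1 (ZMod.val_lt x))
  have hu : IsUnit (r : ZMod (p ^ m)) := by
    rw [ZMod.isUnit_iff_coprime]
    exact (((Nat.Prime.coprime_iff_not_dvd hp.out).2 hr).symm).pow_right m
  obtain ⟨v, hv⟩ := hu
  have hmem := L.nsmul_mem (L.nsmul_mem hxL (p ^ (m - 1 - e))) ((↑v⁻¹ : ZMod (p ^ m))).val
  convert hmem using 1
  rw [nsmul_eq_mul, nsmul_eq_mul, ZMod.natCast_zmod_val]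
  conv_rhs => rw [← ZMod.natCast_zmod_val x, hxe, Nat.cast_mul _ r, ← hv]
  rw [← mul_assoc (_ : ZMod (p ^ m)) _ (v : ZMod (p ^ m)), ← Nat.cast_mul, ← pow_add,
    show m - 1 - e + e = m - 1 by omega, mul_left_comm, Units.inv_mul, mul_one]

end CfsgLib.Hall2.CyclicRegular
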